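import Groth.Agent.H27HilbAff.Coord
import Mathlib

/-! # Ideals of finite colength of the coordinate axes -/

set_option autoImplicit false
set_option linter.style.haveILetI false
set_option backward.isDefEq.respectTransparency false
set_option backward.isDefEq.respectTransparency.types false

set_option synthInstance.maxHeartbeats 400000

universe u

open TensorProduct

namespace Groth.Agent.H27Axes

open H27HilbAff

variable (k : Type u) [Field k] (N : ℕ)

/-- The ideal of the axes. -/
noncomputable def axes : Ideal (MvPolynomial (Fin N) k) :=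
  Ideal.span {m | ∃ i j : Fin N, i ≠ j ∧ m = MvPolynomial.X i * MvPolynomial.X j}

/-- The ring of functions on the axes. -/
def Bax := MvPolynomial (Fin N) k ⧸ axes k N

noncomputable instance : CommRing (Bax k N) := inferInstanceAs (CommRing (MvPolynomial (Fin N) k ⧸ axes k N))

noncomputable instance : Algebra k (Bax k N) := inferInstanceAs (Algebra k (MvPolynomial (Fin N) k ⧸ axes k N))

/-- The quotient map. -/
noncomputable def mkB : MvPolynomial (Fin N) k →ₐ[k] Bax k N := Ideal.Quotient.mkₐ k (axes k N)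

variable {k N} (A : Type u) [CommRing A] [Algebra k A]

/-- A coordinate. -/
noncomputable def x (t : Fin N) : A ⊗[k] Bax k N := (1 : A) ⊗ₜ mkB k N (MvPolynomial.X t)

/-- Restriction to a branch. -/
noncomputable def branch (t : Fin N) : Bax k N →ₐ[k] Polynomial A :=
  Ideal.Quotient.liftₐ (axes k N) (MvPolynomial.aeval fun s => if s = t then Polynomial.X else 0) (by
    intro z hz
    refine (RingHom.mem_ker).1 ((Ideal.span_le (I := RingHom.ker (MvPolynomial.aeval
      (fun s => if s = t then (Polynomial.X : Polynomial A) else 0) : MvPolynomial (Fin N) k →ₐ[k] Polynomial A))).2 ?_ hz)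
    rintro _ ⟨i, j, hij, rfl⟩
    rw [SetLike.mem_coe, RingHom.mem_ker, map_mul, MvPolynomial.aeval_X, MvPolynomial.aeval_X]
    by_cases hi : i = t
    · rw [if_neg (fun hj : j = t => hij (hi.trans hj.symm)), mul_zero]
    · rw [if_neg hi, zero_mul])

lemma branch_mkB (t : Fin N) (p : MvPolynomial (Fin N) k) : branch A t (mkB k N p) =
    MvPolynomial.aeval (fun s => if s = t then (Polynomial.X : Polynomial A) else 0) p :=
  Ideal.Quotient.lift_mk _ _ _

/-- Restriction of a family to a branch. -/
noncomputable def π (t : Fin N) : A ⊗[k] Bax k N →ₐ[A] Polynomial A :=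
  Algebra.TensorProduct.lift (Algebra.ofId A (Polynomial A)) (branch A t) fun _ _ => Commute.all _ _

/-- The value at the origin, before base change. -/
noncomputable def origin : Bax k N →ₐ[k] A :=
  Ideal.Quotient.liftₐ (axes k N) (MvPolynomial.aeval fun _ => (0 : A)) (by
    intro z hz
    refine (RingHom.mem_ker).1 ((Ideal.span_le (I := RingHom.ker (MvPolynomial.aeval
      (fun _ => (0 : A)) : MvPolynomial (Fin N) k →ₐ[k] A))).2 ?_ hz)
    rintro _ ⟨i, j, hij, rfl⟩
    simp)

lemma origin_mkB (p : MvPolynomial (Fin N) k) :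
    origin A (mkB k N p) = MvPolynomial.aeval (fun _ => (0 : A)) p :=
  Ideal.Quotient.lift_mk _ _ _

/-- The value at the origin. -/
noncomputable def ε : A ⊗[k] Bax k N →ₐ[A] A :=
  Algebra.TensorProduct.lift (AlgHom.id A A) (origin A) fun _ _ => Commute.all _ _

variable {A}

@[simp] lemma π_x (s t : Fin N) : π A t (x (k := k) A s) = if s = t then Polynomial.X else 0 := by
  simp [π, x, branch_mkB]

@[simp] lemma ε_x (s : Fin N) : ε A (x (k := k) A s) = 0 := by
  simp [ε, x, origin_mkB]

lemma x_mul_x {s t : Fin N} (h : s ≠ t) : x (k := k) A s * x (k := k) A t = 0 := by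
  rw [x, x, Algebra.TensorProduct.tmul_mul_tmul, ← map_mul]
  rw [show mkB k N (MvPolynomial.X s * MvPolynomial.X t) = 0 from
    Ideal.Quotient.eq_zero_iff_mem.2 (Ideal.subset_span ⟨s, t, h, rfl⟩), TensorProduct.tmul_zero]

/-- The coordinates generate. -/
theorem exists_aeval (f : A ⊗[k] Bax k N) : ∃ p : MvPolynomial (Fin N) A, MvPolynomial.aeval (x (k := k) A) p = f := by
  induction f using TensorProduct.induction_on with
  | zero => exact ⟨0, map_zero _⟩
  | add p q hp hq =>
    obtain ⟨p', rfl⟩ := hp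
    obtain ⟨q', rfl⟩ := hq
    exact ⟨p' + q', map_add _ _ _⟩
  | tmul a b =>
    obtain ⟨b, rfl⟩ : ∃ b', mkB k N b' = b := Ideal.Quotient.mkₐ_surjective k (axes k N) b
    refine ⟨a • MvPolynomial.map (algebraMap k A) b, ?_⟩
    have : MvPolynomial.aeval (x (k := k) A) (MvPolynomial.map (algebraMap k A) b) =
        Algebra.TensorProduct.includeRight (mkB k N b) := by
      rw [MvPolynomial.aeval_map_algebraMap]
      exact DFunLike.congr_fun (MvPolynomial.algHom_ext (f := MvPolynomial.aeval (x (k := k) A))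
        (g := (Algebra.TensorProduct.includeRight : Bax k N →ₐ[k] A ⊗[k] Bax k N).comp (mkB k N))
        fun i => by simp [x]) b
    rw [map_smul, this, Algebra.TensorProduct.includeRight_apply, TensorProduct.smul_tmul', smul_eq_mul, mul_one]

/-- Multiplying by a coordinate only sees its branch. -/
theorem mul_x (f : A ⊗[k] Bax k N) (t : Fin N) : f * x (k := k) A t = Polynomial.aeval (x (k := k) A t) (π A t f * Polynomial.X) := by
  obtain ⟨p, rfl⟩ := exists_aeval f
  induction p using MvPolynomial.induction_on with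
  | C a => simp only [MvPolynomial.aeval_C, AlgHom.commutes, map_mul, Polynomial.algebraMap_eq, Polynomial.aeval_C, Polynomial.aeval_X, Polynomial.coeff_C_zero, Algebra.algebraMap_self, RingHom.id_apply, sub_self, map_zero, Finset.sum_const_zero, add_zero]
  | add p q hp hq => rw [map_add, add_mul, hp, hq, map_add, add_mul, map_add]
  | mul_X p s hp =>
    rw [map_mul (MvPolynomial.aeval (x (k := k) A)), MvPolynomial.aeval_X, map_mul (π A t), π_x]
    split_ifs with h
    · subst h
      rw [map_mul (Polynomial.aeval (x (k := k) A s)), Polynomial.aeval_X, ← hp]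
    · rw [mul_assoc, x_mul_x h, mul_zero, mul_zero, zero_mul, map_zero]

/-- A function is determined by its value at the origin and its restrictions to the branches. -/
theorem decomp (f : A ⊗[k] Bax k N) :
    f = algebraMap A _ (ε A f) + ∑ t, Polynomial.aeval (x (k := k) A t) (π A t f - Polynomial.C (ε A f)) := by
  obtain ⟨p, rfl⟩ := exists_aeval f
  induction p using MvPolynomial.induction_on with
  | C a => simp only [MvPolynomial.aeval_C, AlgHom.commutes, map_mul, Polynomial.algebraMap_eq, Polynomial.aeval_C, Polynomial.aeval_X, Polynomial.coeff_C_zero, Algebra.algebraMap_self, RingHom.id_apply, sub_self, map_zero, Finset.sum_const_zero, add_zero]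
  | add p q hp hq =>
    conv_lhs => rw [map_add, hp, hq]
    simp only [map_add, map_sub, Finset.sum_add_distrib, Finset.sum_sub_distrib]
    abel
  | mul_X p s hp =>
    rw [map_mul, MvPolynomial.aeval_X, map_mul (ε A), ε_x, mul_zero, map_zero, map_zero, zero_add]
    rw [Finset.sum_eq_single s]
    · rw [map_mul, π_x, if_pos rfl, sub_zero, ← mul_x]
    · intro t _ ht
      rw [map_mul, π_x, if_neg (Ne.symm ht), mul_zero, sub_zero, map_zero]
    · simp

lemma coeff_zero_π (f : A ⊗[k] Bax k N) (t : Fin N) : (π A t f).coeff 0 = ε A f := by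
  obtain ⟨p, rfl⟩ := exists_aeval f
  induction p using MvPolynomial.induction_on with
  | C a => simp only [MvPolynomial.aeval_C, AlgHom.commutes, map_mul, Polynomial.algebraMap_eq, Polynomial.aeval_C, Polynomial.aeval_X, Polynomial.coeff_C_zero, Algebra.algebraMap_self, RingHom.id_apply, sub_self, map_zero, Finset.sum_const_zero, add_zero]
  | add p q hp hq => rw [map_add, map_add, Polynomial.coeff_add, hp, hq, map_add]
  | mul_X p s hp =>
    rw [map_mul, MvPolynomial.aeval_X, map_mul, π_x, map_mul (ε A), ε_x, mul_zero]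
    split_ifs <;> simp

variable (A) in
/-- The leading coefficients. -/
noncomputable def top (a : Fin N → ℕ) : A ⊗[k] Bax k N →ₗ[A] (Fin N → A) :=
  LinearMap.pi fun t => (Polynomial.lcoeff A (a t)).comp (π A t).toLinearMap

@[simp] lemma top_apply (a : Fin N → ℕ) (f : A ⊗[k] Bax k N) (t : Fin N) :
    top (k := k) A a f t = (π A t f).coeff (a t) := rfl

/-- The ideal given by orders of vanishing and a space of leading coefficients. -/
noncomputable def ideal (a : Fin N → ℕ) (V : Submodule A (Fin N → A)) : Ideal (A ⊗[k] Bax k N) where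
  carrier := {f | ε A f = 0 ∧ (∀ t, ∀ m < a t, (π A t f).coeff m = 0) ∧ top (k := k) A a f ∈ V}
  zero_mem' := ⟨map_zero _, fun t m _ => by simp, by simp⟩
  add_mem' := fun {f g} hf hg => ⟨by rw [map_add, hf.1, hg.1, add_zero],
    fun t m hm => by simp [hf.2.1 t m hm, hg.2.1 t m hm], by rw [map_add]; exact add_mem hf.2.2 hg.2.2⟩
  smul_mem' := fun g f hf => by
    have hdvd : ∀ t, Polynomial.X ^ a t ∣ π A t f := fun t => Polynomial.X_pow_dvd_iff.2 (hf.2.1 t)
    refine ⟨by rw [smul_eq_mul, map_mul, hf.1, mul_zero], fun t m hm => ?_, ?_⟩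
    · rw [smul_eq_mul, map_mul]
      exact Polynomial.X_pow_dvd_iff.1 (dvd_mul_of_dvd_right (hdvd t) _) m hm
    · have : top (k := k) A a (g • f) = ε A g • top (k := k) A a f := funext fun t => by
        obtain ⟨q, hq⟩ := hdvd t
        have e : ∀ r : Polynomial A, (Polynomial.X ^ a t * r).coeff (a t) = r.coeff 0 := fun r => by
          simpa using Polynomial.coeff_X_pow_mul r (a t) 0
        simp only [top_apply, smul_eq_mul, map_mul, Pi.smul_apply, hq]
        rw [mul_left_comm, e, e, Polynomial.mul_coeff_zero, coeff_zero_π]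
      rw [this]
      exact V.smul_mem _ hf.2.2

variable (A) in
/-- The element with prescribed leading coefficients. -/
noncomputable def gen (a : Fin N → ℕ) : (Fin N → A) →ₗ[A] A ⊗[k] Bax k N :=
  Fintype.linearCombination A fun t => x (k := k) A t ^ a t

lemma gen_apply (a : Fin N → ℕ) (z : Fin N → A) : gen (k := k) A a z = ∑ t, z t • x (k := k) A t ^ a t :=
  Fintype.linearCombination_apply A _ z

lemma π_gen {a : Fin N → ℕ} (ha : ∀ t, a t ≠ 0) (z : Fin N → A) (t : Fin N) :
    π A t (gen (k := k) A a z) = Polynomial.monomial (a t) (z t) := by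
  rw [gen_apply, map_sum, Finset.sum_eq_single t]
  · simp [Polynomial.smul_X_eq_monomial, ← Polynomial.C_mul_X_pow_eq_monomial, Polynomial.smul_eq_C_mul]
  · intro s _ hs
    simp [hs, zero_pow (ha s)]
  · simp

lemma top_gen {a : Fin N → ℕ} (ha : ∀ t, a t ≠ 0) (z : Fin N → A) : top (k := k) A a (gen (k := k) A a z) = z :=
  funext fun t => by simp [π_gen ha]

lemma ε_gen {a : Fin N → ℕ} (ha : ∀ t, a t ≠ 0) (z : Fin N → A) : ε A (gen (k := k) A a z) = 0 := by
  rw [gen_apply, map_sum]
  exact Finset.sum_eq_zero fun t _ => by simp [zero_pow (ha t)]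

lemma gen_mem {a : Fin N → ℕ} (ha : ∀ t, a t ≠ 0) {V : Submodule A (Fin N → A)} {z : Fin N → A} (hz : z ∈ V) :
    gen (k := k) A a z ∈ ideal (k := k) a V :=
  ⟨ε_gen ha z, fun t m hm => by rw [π_gen ha, Polynomial.coeff_monomial, if_neg hm.ne'], by rwa [top_gen ha]⟩

lemma x_pow_mem {a : Fin N → ℕ} (ha : ∀ t, a t ≠ 0) (V : Submodule A (Fin N → A)) (t : Fin N) :
    x (k := k) A t ^ (a t + 1) ∈ ideal (k := k) a V := by
  have h0 : ∀ s, ∀ m ≤ a s, (π A s (x (k := k) A t ^ (a t + 1))).coeff m = 0 := fun s m hm => by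
    rw [map_pow, π_x]
    split_ifs with h
    · subst h; rw [Polynomial.coeff_X_pow, if_neg (by omega)]
    · simp
  refine ⟨by simp, fun s m hm => h0 s m hm.le, ?_⟩
  rw [show top (k := k) A a (x (k := k) A t ^ (a t + 1)) = 0 from funext fun s => h0 s _ le_rfl]
  exact zero_mem _

/-- Generators. -/
theorem ideal_span {a : Fin N → ℕ} (ha : ∀ t, a t ≠ 0) (S : Set (Fin N → A)) :
    ideal (k := k) a (Submodule.span A S) =
      Ideal.span (gen (k := k) A a '' S ∪ Set.range fun t => x (k := k) A t ^ (a t + 1)) := by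
  refine le_antisymm (fun f hf => ?_) (Ideal.span_le.2 (Set.union_subset ?_ ?_))
  · set I := Ideal.span (gen (k := k) A a '' S ∪ Set.range fun t => x (k := k) A t ^ (a t + 1)) with hI
    have h1 : gen (k := k) A a (top (k := k) A a f) ∈ I := by
      have : (Submodule.span A S).map (gen (k := k) A a) ≤ I.restrictScalars A :=
        (Submodule.map_span_le _ _ _).2 fun z hz => Ideal.subset_span (Or.inl ⟨z, hz, rfl⟩)
      exact this (Submodule.mem_map_of_mem hf.2.2)
    suffices f - gen (k := k) A a (top (k := k) A a f) ∈ I by simpa using add_mem this h1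
    set g := f - gen (k := k) A a (top (k := k) A a f) with hg
    have hεg : ε A g = 0 := by rw [hg, map_sub, hf.1, ε_gen ha, sub_zero]
    rw [decomp g, hεg, map_zero, zero_add]
    refine Ideal.sum_mem _ fun t _ => ?_
    have hd : Polynomial.X ^ (a t + 1) ∣ π A t g - Polynomial.C 0 := Polynomial.X_pow_dvd_iff.2 fun m hm => by
      rw [map_zero, sub_zero, hg, map_sub, Polynomial.coeff_sub, π_gen ha, Polynomial.coeff_monomial, top_apply]
      rcases Nat.lt_succ_iff_lt_or_eq.1 hm with h | h
      · rw [hf.2.1 t m h, if_neg h.ne', sub_zero]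
      · rw [h, if_pos rfl, sub_self]
    obtain ⟨q, hq⟩ := hd
    rw [hq, map_mul, map_pow, Polynomial.aeval_X]
    exact I.mul_mem_right _ (Ideal.subset_span (Or.inr ⟨t, rfl⟩))
  · rintro _ ⟨z, hz, rfl⟩
    exact gen_mem ha (Submodule.subset_span hz)
  · rintro _ ⟨t, rfl⟩
    exact x_pow_mem ha _ t

/-- Change of base. -/
theorem map_ideal {A' : Type u} [CommRing A'] [Algebra k A'] (χ : A →ₐ[k] A') {a : Fin N → ℕ} (ha : ∀ t, a t ≠ 0)
    {ι : Type*} (w : ι → Fin N → A) :
    (ideal (k := k) a (Submodule.span A (Set.range w))).map (bc χ) =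
      ideal (k := k) a (Submodule.span A' (Set.range fun i t => χ (w i t))) := by
  have hx : ∀ t : Fin N, bc χ (x (k := k) A t) = x (k := k) A' t := fun t => by rw [x, x, bc_tmul, map_one]
  rw [ideal_span ha, ideal_span ha, Ideal.map_span, Set.image_union, Set.image_image, ← Set.range_comp, ← Set.range_comp,
    ← Set.range_comp]
  congr 1
  congr 1
  · refine congrArg Set.range (funext fun i => ?_)
    simp only [Function.comp_apply, gen_apply, map_sum, bc_smul, map_pow, hx]
  · refine congrArg Set.range (funext fun t => ?_)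
    simp only [Function.comp_apply, map_pow, hx]

/-- The shape of the quotient. -/
theorem quotient_free [Nontrivial A] {a : Fin N → ℕ} (ha : ∀ t, a t ≠ 0) (V : Submodule A (Fin N → A)) {c : ℕ}
    (e : ((Fin N → A) ⧸ V) ≃ₗ[A] (Fin c → A)) :
    Module.Finite A ((A ⊗[k] Bax k N) ⧸ ideal (k := k) a V) ∧ Module.Free A ((A ⊗[k] Bax k N) ⧸ ideal (k := k) a V) ∧
      Module.finrank A ((A ⊗[k] Bax k N) ⧸ ideal (k := k) a V) = 1 + (∑ t, (a t - 1)) + c := by
  classical
  let Φ : A ⊗[k] Bax k N →ₗ[A] (A × (((t : Fin N) × Fin (a t - 1)) → A)) × (Fin c → A) :=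
    ((ε A).toLinearMap.prod (LinearMap.pi fun p : (t : Fin N) × Fin (a t - 1) =>
      (Polynomial.lcoeff A (p.2.1 + 1)).comp (π A p.1).toLinearMap)).prod
      (e.toLinearMap ∘ₗ V.mkQ ∘ₗ top (k := k) A a)
  have hker : (ideal (k := k) a V).restrictScalars A = LinearMap.ker Φ := by
    ext f
    rw [Submodule.restrictScalars_mem, LinearMap.mem_ker]
    constructor
    · rintro ⟨h1, h2, h3⟩
      refine Prod.ext (Prod.ext h1 (funext fun p => h2 p.1 _ (by have := p.2.2; omega))) ?_
      show e (V.mkQ (top (k := k) A a f)) = 0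
      rw [Submodule.mkQ_apply, (Submodule.Quotient.mk_eq_zero V).2 h3, map_zero]
    · intro h
      have h1 : ε A f = 0 := congrArg (fun q => q.1.1) h
      have h2 : ∀ p : (t : Fin N) × Fin (a t - 1), (π A p.1 f).coeff (p.2.1 + 1) = 0 :=
        fun p => congrArg (fun q => q.1.2 p) h
      have h3 : e (V.mkQ (top (k := k) A a f)) = 0 := congrArg (fun q => q.2) h
      refine ⟨h1, fun t m hm => ?_, (Submodule.Quotient.mk_eq_zero V).1 (e.map_eq_zero_iff.1 h3)⟩
      cases m with
      | zero => rw [coeff_zero_π]; exact h1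
      | succ j => exact h2 ⟨t, ⟨j, by omega⟩⟩
  have hsurj : Function.Surjective Φ := by
    rintro ⟨⟨e₀, c'⟩, y⟩
    obtain ⟨z, hz⟩ := Submodule.mkQ_surjective V (e.symm y)
    refine ⟨algebraMap A _ e₀ + (∑ p : (t : Fin N) × Fin (a t - 1), c' p • x (k := k) A p.1 ^ (p.2.1 + 1)) + gen (k := k) A a z,
      Prod.ext (Prod.ext ?_ (funext fun p => ?_)) ?_⟩
    · show ε A _ = e₀
      rw [map_add, map_add, AlgHom.commutes, ε_gen ha, map_sum, add_zero, Finset.sum_eq_zero, add_zero]
      · rfl
      · intro p _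
        simp
    · show (π A p.1 _).coeff (p.2.1 + 1) = c' p
      have hp := p.2.2
      rw [map_add, map_add, AlgHom.commutes, Polynomial.coeff_add, Polynomial.coeff_add, π_gen ha,
        Polynomial.coeff_monomial, if_neg (by omega), add_zero, Polynomial.algebraMap_eq, Polynomial.coeff_C,
        if_neg (by omega), zero_add, map_sum, Polynomial.finsetSum_coeff, Finset.sum_eq_single p]
      · simp
      · rintro ⟨s, j⟩ _ hne
        rw [map_smul, map_pow, π_x]
        split_ifs with h
        · obtain ⟨t, i⟩ := p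
          subst h
          have : ¬ (i.1 = j.1) := fun hh => hne (by rw [show j = i from Fin.ext hh.symm])
          simp [Polynomial.coeff_X_pow, this]
        · simp
      · simp
    · show e (V.mkQ (top (k := k) A a _)) = y
      suffices top (k := k) A a (algebraMap A _ e₀ + (∑ p : (t : Fin N) × Fin (a t - 1), c' p • x (k := k) A p.1 ^ (p.2.1 + 1)) +
          gen (k := k) A a z) = z by rw [this, hz, LinearEquiv.apply_symm_apply]
      rw [map_add, top_gen ha, add_eq_right]
      funext t
      rw [top_apply, map_add, AlgHom.commutes, Polynomial.coeff_add, Polynomial.algebraMap_eq, Polynomial.coeff_C,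
        if_neg (ha t), zero_add, map_sum, Polynomial.finsetSum_coeff, Pi.zero_apply]
      refine Finset.sum_eq_zero fun p _ => ?_
      rw [map_smul, map_pow, π_x]
      split_ifs with h
      · subst h
        have hp := p.2.2
        simp [Polynomial.coeff_X_pow, show ¬ (a p.1 = p.2.1 + 1) by omega]
      · simp
  let E : ((A ⊗[k] Bax k N) ⧸ ideal (k := k) a V) ≃ₗ[A] (A × (((t : Fin N) × Fin (a t - 1)) → A)) × (Fin c → A) :=
    (Submodule.Quotient.restrictScalarsEquiv A (ideal (k := k) a V)).symm ≪≫ₗ Submodule.quotEquivOfEq _ _ hker ≪≫ₗ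
      Φ.quotKerEquivOfSurjective hsurj
  refine ⟨Module.Finite.equiv E.symm, Module.Free.of_equiv E.symm, ?_⟩
  rw [E.finrank_eq]
  simp

section field

variable {K : Type u} [Field K] [Algebra k K]

/-- Every punctual ideal is of this form. -/
theorem exists_eq_ideal (I : Ideal (K ⊗[k] Bax k N)) (hI : I ≠ ⊤) (hpun : ∀ t, x (k := k) K t ∈ I.radical) :
    ∃ (a : Fin N → ℕ) (V : Submodule K (Fin N → K)), (∀ t, a t ≠ 0) ∧ (∀ t, ∃ z ∈ V, z t ≠ 0) ∧ ideal (k := k) a V = I := by
  classical
  have hmem : ∀ (t : Fin N) (p : Polynomial K), Polynomial.aeval (x (k := k) K t) p -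
      algebraMap K _ (p.coeff 0) ∈ I.radical := fun t p => by
    obtain ⟨q, hq⟩ : Polynomial.X ∣ p - Polynomial.C (p.coeff 0) := by
      rw [Polynomial.X_dvd_iff]; simp
    have := congrArg (Polynomial.aeval (x (k := k) K t)) hq
    rw [map_sub, Polynomial.aeval_C, map_mul, Polynomial.aeval_X] at this
    rw [this]
    exact I.radical.mul_mem_right _ (hpun t)
  have hε : ∀ f ∈ I, ε K f = 0 := by
    intro f hf
    by_contra hne
    apply hI
    have h1 : algebraMap K (K ⊗[k] Bax k N) (ε K f) ∈ I.radical := by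
      have h2 : ∑ t, Polynomial.aeval (x (k := k) K t) (π K t f - Polynomial.C (ε K f)) ∈ I.radical :=
        Ideal.sum_mem _ fun t _ => by
          have := hmem t (π K t f - Polynomial.C (ε K f))
          simpa [coeff_zero_π] using this
      have := sub_mem (Ideal.le_radical hf) h2
      rwa [sub_eq_iff_eq_add.2 (decomp f)] at this
    rw [← Ideal.radical_eq_top]
    exact Ideal.eq_top_of_isUnit_mem _ h1 ((Ne.isUnit hne).map _)
  have hex : ∀ t, ∃ m, ∃ f ∈ I, (π K t f).coeff m ≠ 0 := fun t => by
    obtain ⟨n, hn⟩ := hpun t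
    exact ⟨n, _, hn, by simp⟩
  let a : Fin N → ℕ := fun t => Nat.find (hex t)
  have hlt : ∀ t, ∀ m < a t, ∀ f ∈ I, (π K t f).coeff m = 0 := fun t m hm f hf => by
    by_contra h
    exact Nat.find_min (hex t) hm ⟨f, hf, h⟩
  have ha : ∀ t, a t ≠ 0 := fun t h => by
    obtain ⟨f, hf, hne⟩ := Nat.find_spec (hex t)
    rw [show Nat.find (hex t) = 0 from h, coeff_zero_π, hε f hf] at hne
    exact hne rfl
  have hx : ∀ t, x (k := k) K t ^ (a t + 1) ∈ I := fun t => by
    obtain ⟨f, hf, hne⟩ : ∃ f ∈ I, (π K t f).coeff (a t) ≠ 0 := Nat.find_spec (hex t)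
    obtain ⟨q, hq⟩ : Polynomial.X ^ a t ∣ π K t f := Polynomial.X_pow_dvd_iff.2 fun m hm => hlt t m hm f hf
    have hq0 : q.coeff 0 ≠ 0 := by
      rw [hq] at hne
      simpa using (Polynomial.coeff_X_pow_mul q (a t) 0 ▸ by simpa using hne : q.coeff 0 ≠ 0)
    obtain ⟨n, hn⟩ := hpun t
    obtain ⟨c₁, c₂, hc⟩ : IsCoprime (Polynomial.X ^ n) q :=
      ((Polynomial.irreducible_X.coprime_iff_not_dvd).2 fun h => hq0 (Polynomial.X_dvd_iff.1 h)).pow_left
    have h1 : x (k := k) K t ^ (a t + 1) * Polynomial.aeval (x (k := k) K t) q ∈ I := by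
      have := I.mul_mem_right (x (k := k) K t) hf
      rw [mul_x, hq, map_mul, map_mul, map_pow, Polynomial.aeval_X, mul_right_comm, ← pow_succ] at this
      exact this
    have h2 : x (k := k) K t ^ (a t + 1) = Polynomial.aeval (x (k := k) K t) c₁ * x (k := k) K t ^ (a t + 1) * x (k := k) K t ^ n +
        Polynomial.aeval (x (k := k) K t) c₂ * (x (k := k) K t ^ (a t + 1) * Polynomial.aeval (x (k := k) K t) q) := by
      have := congrArg (Polynomial.aeval (x (k := k) K t)) hc
      simp only [map_add, map_mul, map_pow, Polynomial.aeval_X, map_one] at this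
      linear_combination -(x (k := k) K t ^ (a t + 1)) * this
    rw [h2]
    exact add_mem (I.mul_mem_left _ hn) (I.mul_mem_left _ h1)
  refine ⟨a, (I.restrictScalars K).map (top (k := k) K a), ha, fun t => ?_, le_antisymm (fun f hf => ?_) fun f hf =>
    ⟨hε f hf, fun t m hm => hlt t m hm f hf, Submodule.mem_map_of_mem hf⟩⟩
  · obtain ⟨f, hf, hne⟩ := Nat.find_spec (hex t)
    exact ⟨top (k := k) K a f, Submodule.mem_map_of_mem hf, hne⟩
  · obtain ⟨g, hg, hgf⟩ := hf.2.2
    suffices f - g ∈ I by simpa using add_mem this hg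
    have hle : ideal (k := k) a (Submodule.span K (∅ : Set (Fin N → K))) ≤ I := by
      rw [ideal_span ha, Set.image_empty, Set.empty_union, Ideal.span_le]
      rintro _ ⟨t, rfl⟩
      exact hx t
    refine hle ⟨by rw [map_sub, hf.1, hε g hg, sub_zero], fun t m hm => ?_, ?_⟩
    · rw [map_sub, Polynomial.coeff_sub, hf.2.1 t m hm, hlt t m hm g hg, sub_zero]
    · rw [map_sub, hgf, sub_self]; exact zero_mem _

/-- The data are determined by the ideal. -/
theorem ideal_injective {a a' : Fin N → ℕ} (ha : ∀ t, a t ≠ 0) (ha' : ∀ t, a' t ≠ 0)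
    {V V' : Submodule K (Fin N → K)} (hV : ∀ t, ∃ z ∈ V, z t ≠ 0) (hV' : ∀ t, ∃ z ∈ V', z t ≠ 0)
    (h : ideal (k := k) a V = ideal (k := k) a' V') : a = a' ∧ V = V' := by
  have key : ∀ {b b' : Fin N → ℕ} {W W' : Submodule K (Fin N → K)}, (∀ t, b t ≠ 0) → (∀ t, ∃ z ∈ W, z t ≠ 0) →
      ideal (k := k) b W = ideal (k := k) b' W' → ∀ t, b' t ≤ b t := by
    intro b b' W W' hb hW e t
    obtain ⟨z, hz, hzt⟩ := hW t
    by_contra hlt
    have := (e ▸ gen_mem hb hz : gen (k := k) K b z ∈ ideal (k := k) b' W').2.1 t (b t) (not_le.1 hlt)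
    rw [π_gen hb, Polynomial.coeff_monomial, if_pos rfl] at this
    exact hzt this
  obtain rfl : a = a' := funext fun t => le_antisymm (key ha' hV' h.symm t) (key ha hV h t)
  refine ⟨rfl, le_antisymm (fun z hz => ?_) fun z hz => ?_⟩
  · have := (h ▸ gen_mem ha hz : gen (k := k) K a z ∈ ideal (k := k) a V').2.2
    rwa [top_gen ha] at this
  · have := (h.symm ▸ gen_mem ha hz : gen (k := k) K a z ∈ ideal (k := k) a V).2.2
    rwa [top_gen ha] at this

end field

end Groth.Agent.H27Axes
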