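import Groth.Agent.H27PunctStrat.Classes
import Mathlib

/-! # Affine spaces with some coordinates inverted -/

set_option autoImplicit false
set_option linter.style.haveILetI false
set_option backward.isDefEq.respectTransparency false
set_option backward.isDefEq.respectTransparency.types false

set_option synthInstance.maxHeartbeats 400000

universe u

open CategoryTheory CategoryTheory.Limits AlgebraicGeometry CommRingCat

namespace Groth.Agent.H27Axes

open H27PunctStrat

variable (k : Type u) [Field k]

/-- The product of the inverted coordinates. -/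
noncomputable abbrev unitProd {σ : Type u} (U : Finset σ) : MvPolynomial σ k := ∏ x ∈ U, MvPolynomial.X x

/-- Affine space with some coordinates inverted. -/
abbrev Torus {σ : Type u} (U : Finset σ) : Type u := Localization.Away (unitProd k U)

/-- A coordinate function. -/
noncomputable abbrev coord {σ : Type u} (U : Finset σ) (x : σ) : Torus k U :=
  algebraMap (MvPolynomial σ k) (Torus k U) (MvPolynomial.X x)

instance finiteType_torus {σ : Type u} [Finite σ] (U : Finset σ) : Algebra.FiniteType k (Torus k U) :=
  .trans (inferInstanceAs (Algebra.FiniteType k (MvPolynomial σ k)))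
    (IsLocalization.finiteType_of_monoid_fg (Submonoid.powers (unitProd k U)) _)

instance isDomain_torus {σ : Type u} (U : Finset σ) : IsDomain (Torus k U) :=
  IsLocalization.isDomain_localization (powers_le_nonZeroDivisors_of_noZeroDivisors
    (Finset.prod_ne_zero_iff.2 fun x _ => MvPolynomial.X_ne_zero x))

variable {k}

lemma isUnit_coord {σ : Type u} {U : Finset σ} {x : σ} (hx : x ∈ U) : IsUnit (coord k U x) := by
  have h := IsLocalization.Away.algebraMap_isUnit (S := Torus k U) (unitProd k U)
  rw [map_prod, IsUnit.prod_iff] at h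
  exact h x hx

variable {σ : Type u} {U : Finset σ} {R : Type u} [CommRing R] [Algebra k R]

/-- The point with prescribed coordinates. -/
noncomputable def point (v : σ → R) (hv : ∀ x ∈ U, IsUnit (v x)) : Torus k U →ₐ[k] R :=
  IsLocalization.liftAlgHom (M := Submonoid.powers (unitProd k U)) (f := MvPolynomial.aeval v) (by
    rintro ⟨_, n, rfl⟩
    rw [map_pow, map_prod]
    exact (IsUnit.prod_iff.2 fun x hx => by simpa using hv x hx).pow n)

@[simp] lemma point_coord (v : σ → R) (hv : ∀ x ∈ U, IsUnit (v x)) (x : σ) : point v hv (coord k U x) = v x := by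
  simp [point, IsLocalization.lift_eq]

lemma point_ext {f g : Torus k U →ₐ[k] R} (h : ∀ x, f (coord k U x) = g (coord k U x)) : f = g :=
  IsLocalization.algHom_ext (Submonoid.powers (unitProd k U)) (MvPolynomial.algHom_ext h)

/-- Removing an inverted coordinate. -/
theorem cl_torus_erase {σ : Type u} [Fintype σ] [DecidableEq σ] (U : Finset σ) {w : σ} (hw : w ∈ U) :
    K0Var.cl (str k (Torus k (U.erase w))) = K0Var.cl (str k (Torus k ((U.erase w).subtype (· ≠ w)))) +
      K0Var.cl (str k (Torus k U)) := by
  let A := Torus k (U.erase w)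
  let Q := Torus k ((U.erase w).subtype (· ≠ w))
  let f : A := coord k (U.erase w) w
  let T := Localization.Away f
  let r : A →ₐ[k] Q := point (U := U.erase w) (fun x => if h : x = w then 0 else coord k ((U.erase w).subtype (· ≠ w)) ⟨x, h⟩) fun x hx => by
    rw [dif_neg (Finset.ne_of_mem_erase hx)]
    exact isUnit_coord (Finset.mem_subtype.2 hx)
  let s : Q →ₐ[k] A := point (U := (U.erase w).subtype (· ≠ w)) (fun x => coord k (U.erase w) x.1)
    fun x hx => isUnit_coord (Finset.mem_subtype.1 hx)
  have hr₀ : ∀ x, r (coord k (U.erase w) x) = if h : x = w then 0 else coord k ((U.erase w).subtype (· ≠ w)) ⟨x, h⟩ :=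
    point_coord _ _
  have hs₀ : ∀ x, s (coord k ((U.erase w).subtype (· ≠ w)) x) = coord k (U.erase w) x.1 := point_coord _ _
  clear_value r s
  have hrs : r.comp s = AlgHom.id k Q := point_ext (U := (U.erase w).subtype (· ≠ w)) fun x => by
    rw [AlgHom.comp_apply, hs₀, hr₀, dif_neg x.2]
    rfl
  have hsurj : Function.Surjective r := fun z => ⟨s z, DFunLike.congr_fun hrs z⟩
  have hfz : Ideal.Quotient.mkₐ k (Ideal.span {f}) (coord k (U.erase w) w) = 0 := by
    rw [Ideal.Quotient.mkₐ_eq_mk]
    exact (Ideal.Quotient.eq_zero_iff_mem (I := Ideal.span {f})).2 (Ideal.mem_span_singleton_self f)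
  have hker : RingHom.ker r = Ideal.span {f} := by
    refine le_antisymm (fun z hz => ?_) ((Ideal.span_singleton_le_iff_mem _).2 ?_)
    · have key : (Ideal.Quotient.mkₐ k (Ideal.span {f})).comp (s.comp r) = Ideal.Quotient.mkₐ k (Ideal.span {f}) :=
        point_ext (U := U.erase w) fun x => by
          by_cases h : x = w
          · rw [AlgHom.comp_apply, AlgHom.comp_apply, hr₀, dif_pos h, map_zero, map_zero, h]
            exact hfz.symm
          · rw [AlgHom.comp_apply, AlgHom.comp_apply, hr₀, dif_neg h, hs₀]
      have := DFunLike.congr_fun key z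
      rw [AlgHom.comp_apply, AlgHom.comp_apply, RingHom.mem_ker.1 hz, map_zero, map_zero] at this
      exact Ideal.Quotient.eq_zero_iff_mem.1 this.symm
    · show r f = 0
      rw [show r f = _ from hr₀ w, dif_pos rfl]
  haveI : IsClosedImmersion (Spec.map (ofHom r.toRingHom)) := IsClosedImmersion.spec_of_surjective _ hsurj
  haveI : IsOpenImmersion (Spec.map (ofHom (algebraMap A T))) := IsOpenImmersion.of_isLocalization f
  have hr : Set.range (Spec.map (ofHom r.toRingHom)) = (Set.range (Spec.map (ofHom (algebraMap A T))))ᶜ := by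
    refine (_root_.range_comap_of_surjective _ _ hsurj).trans ?_
    refine Eq.trans ?_ (congrArg compl (PrimeSpectrum.localization_away_comap_range T f)).symm
    rw [PrimeSpectrum.basicOpen_eq_zeroLocus_compl, compl_compl, ← PrimeSpectrum.zeroLocus_span {f}]
    exact congrArg (fun I : Ideal A => PrimeSpectrum.zeroLocus (I : Set A)) hker
  haveI : Algebra.FiniteType k T :=
    .trans (inferInstanceAs (Algebra.FiniteType k A)) (IsLocalization.finiteType_of_monoid_fg (Submonoid.powers f) _)
  rw [K0Var.cl_scissor (str k A) _ _ hr]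
  have h1 : Spec.map (ofHom r.toRingHom) ≫ str k A = str k Q := by
    rw [← Spec.map_comp]; congr 1; ext c; exact r.commutes c
  have h2 : Spec.map (ofHom (algebraMap A T)) ≫ str k A = str k T := by
    rw [← Spec.map_comp]; congr 1
  simp only [h1, h2]
  congr 1
  haveI : IsLocalization.Away (unitProd k U) T := by
    have := IsLocalization.Away.mul A T (unitProd k (U.erase w)) (MvPolynomial.X w : MvPolynomial σ k)
    rwa [show (MvPolynomial.X w : MvPolynomial σ k) * unitProd k (U.erase w) = unitProd k U from
      Finset.mul_prod_erase U _ hw] at this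
  exact cl_congr_alg ((IsLocalization.algEquiv (Submonoid.powers (unitProd k U)) T (Torus k U)).restrictScalars k)

/-- The classes are polynomials in the class of the line. -/
theorem exists_cl_torus {σ : Type u} [Fintype σ] (U : Finset σ) :
    ∃ p : Polynomial ℤ, K0Var.cl (str k (Torus k U)) =
      Polynomial.eval₂ (Int.castRingHom (K0Var.K (Spec (CommRingCat.of k)))) (K0Var.L (Spec (CommRingCat.of k))) p := by
  suffices ∀ (n : ℕ) (σ : Type u) [Fintype σ] (U : Finset σ), U.card = n → ∃ p : Polynomial ℤ,
      K0Var.cl (str k (Torus k U)) = Polynomial.eval₂ (Int.castRingHom (K0Var.K (Spec (CommRingCat.of k))))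
        (K0Var.L (Spec (CommRingCat.of k))) p from this _ σ U rfl
  intro n
  induction n with
  | zero =>
    intro σ _ U hU
    rw [Finset.card_eq_zero] at hU
    subst hU
    refine ⟨Polynomial.X ^ Fintype.card σ, ?_⟩
    rw [Polynomial.eval₂_X_pow, ← cl_mvPolynomial σ]
    let p₀ : Torus k (∅ : Finset σ) →ₐ[k] MvPolynomial σ k :=
      point (U := (∅ : Finset σ)) (fun x => MvPolynomial.X x) (by simp)
    have hp₀ : ∀ x, p₀ (coord k (∅ : Finset σ) x) = MvPolynomial.X x := point_coord _ _
    clear_value p₀
    refine (cl_congr_alg (AlgEquiv.ofAlgHom (IsScalarTower.toAlgHom k (MvPolynomial σ k) (Torus k (∅ : Finset σ)))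
      p₀ (point_ext (U := (∅ : Finset σ)) fun x => by rw [AlgHom.comp_apply, hp₀]; rfl)
      (MvPolynomial.algHom_ext fun x => hp₀ x))).symm
  | succ n ih =>
    intro σ _ U hU
    classical
    obtain ⟨w, hw⟩ : U.Nonempty := Finset.card_pos.1 (by omega)
    obtain ⟨p, hp⟩ := ih σ (U.erase w) (by rw [Finset.card_erase_of_mem hw]; omega)
    obtain ⟨q, hq⟩ := ih {x // x ≠ w} ((U.erase w).subtype (· ≠ w)) (by
      rw [Finset.card_subtype, Finset.filter_true_of_mem (fun x hx => Finset.ne_of_mem_erase hx),
        Finset.card_erase_of_mem hw]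
      omega)
    refine ⟨p - q, ?_⟩
    rw [Polynomial.eval₂_sub, ← hp, ← hq, cl_torus_erase U hw]
    abel

end Groth.Agent.H27Axes
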