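import Mathlib

/-! # Echelon cells of subspaces meeting every coordinate

A shape records, column by column, either a new pivot or the first row with a nonzero entry. -/

set_option autoImplicit false
set_option linter.style.haveILetI false

universe u v

namespace Groth.Agent.H27Axes

/-- Shapes of matrices with `r` rows and `N` nonzero columns. -/
inductive Sh : ℕ → ℕ → Type
  | nil : Sh 0 0
  | piv {N r : ℕ} (s : Sh N r) : Sh (N + 1) (r + 1)
  | col {N r : ℕ} (s : Sh N r) (j : Fin r) : Sh (N + 1) r

instance finite_sh : ∀ N r : ℕ, Finite (Sh N r)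
  | 0, r => Finite.of_injective (fun _ => ()) fun a b _ => by cases a; cases b; rfl
  | N + 1, 0 => Finite.of_injective (fun _ => ()) fun a _ _ => by cases a with | col _ j => exact j.elim0
  | N + 1, r + 1 => by
    haveI := finite_sh N r
    haveI := finite_sh N (r + 1)
    exact Finite.of_injective (fun s : Sh (N + 1) (r + 1) => (match s with
      | .piv s => Sum.inl s
      | .col s j => Sum.inr (s, j) : Sh N r ⊕ (Sh N (r + 1) × Fin (r + 1)))) fun a b h => by
      cases a <;> cases b <;> simp_all

theorem Sh.le : ∀ {N r : ℕ}, Sh N r → r ≤ N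
  | _, _, .nil => le_rfl
  | _, _, .piv s => Nat.succ_le_succ s.le
  | _, _, .col s _ => s.le.trans (Nat.le_succ _)

/-- The free entries. -/
def Var : ∀ {N r : ℕ}, Sh N r → Type u
  | _, _, .nil => PEmpty
  | _, _, .piv s => Var s
  | _, r, .col s j => Var s ⊕ ULift.{u} {i : Fin r // j ≤ i}

instance fintypeVar : ∀ {N r : ℕ} (s : Sh N r), Fintype (Var.{u} s)
  | _, _, .nil => inferInstanceAs (Fintype PEmpty)
  | _, _, .piv s => fintypeVar s
  | _, _, .col s j =>
    letI := fintypeVar s
    inferInstanceAs (Fintype (Var s ⊕ ULift {i // j ≤ i}))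

/-- The entries which are units. -/
def units : ∀ {N r : ℕ} (s : Sh N r), Finset (Var.{u} s)
  | _, _, .nil => ∅
  | _, _, .piv s => units s
  | _, _, .col s j => (units s).disjSum {ULift.up ⟨j, le_rfl⟩}

/-- The pivot column of a row. -/
def pivot : ∀ {N r : ℕ}, Sh N r → Fin r → Fin N
  | _, _, .nil => fun i => i
  | N + 1, _, .piv s => Fin.lastCases (Fin.last N) fun i => (pivot s i).castSucc
  | _, _, .col s _ => fun i => (pivot s i).castSucc

variable {A : Type v} [CommRing A]

/-- The rows of a cell. -/
def rows : ∀ {N r : ℕ} (s : Sh N r), (Var.{u} s → A) → Fin r → Fin N → A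
  | _, _, .nil, _ => fun i => i.elim0
  | _, _, .piv s, v => Fin.lastCases (Fin.snoc 0 1) fun i => Fin.snoc (rows s v i) 0
  | _, _, .col s j, v => fun i =>
    Fin.snoc (rows s (fun x => v (Sum.inl x)) i) (if h : j ≤ i then v (Sum.inr ⟨⟨i, h⟩⟩) else 0)

theorem rows_map {A' : Type v} [CommRing A'] (ψ : A →+* A') :
    ∀ {N r : ℕ} (s : Sh N r) (v : Var.{u} s → A) (i : Fin r) (t : Fin N),
      ψ (rows s v i t) = rows s (fun x => ψ (v x)) i t
  | _, _, .nil, _, i, _ => i.elim0
  | _, _, .piv s, v, i, t => by
    induction i using Fin.lastCases with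
    | last => induction t using Fin.lastCases <;> simp [rows]
    | cast i => induction t using Fin.lastCases <;> simp [rows, rows_map ψ s v] <;> rfl
  | _, _, .col s j, v, i, t => by
    induction t using Fin.lastCases with
    | last => by_cases h : j ≤ i <;> simp [rows, h]
    | cast t => simp [rows, rows_map ψ s]

theorem rows_pivot : ∀ {N r : ℕ} (s : Sh N r) (v : Var.{u} s → A) (i i' : Fin r),
    rows s v i (pivot s i') = if i = i' then 1 else 0
  | _, _, .nil, _, i, _ => i.elim0
  | _, _, .piv s, v, i, i' => by
    induction i using Fin.lastCases with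
    | last =>
      induction i' using Fin.lastCases with
      | last => simp [rows, pivot]
      | cast i' => simp [rows, pivot, (Fin.castSucc_lt_last i').ne']
    | cast i =>
      induction i' using Fin.lastCases with
      | last => simp [rows, pivot, (Fin.castSucc_lt_last i).ne]
      | cast i' => simp [rows, pivot, rows_pivot s v]
  | _, _, .col s j, v, i, i' => by simp [rows, pivot, rows_pivot s]

lemma pivot_injective {N r : ℕ} (s : Sh N r) : Function.Injective (pivot s) := fun i i' h => by
  have h2 := rows_pivot (A := ℤ) s (fun _ : Var.{0} s => (0 : ℤ)) i i'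
  rw [← h, rows_pivot, if_pos rfl] at h2
  by_contra hne
  rw [if_neg hne] at h2
  exact one_ne_zero h2

/-- Every column is hit. -/
theorem exists_row_ne_zero [Nontrivial A] : ∀ {N r : ℕ} (s : Sh N r) (v : Var.{u} s → A),
    (∀ x ∈ units s, v x ≠ 0) → ∀ t, ∃ i, rows s v i t ≠ 0
  | _, _, .nil, _, _, t => t.elim0
  | _, _, .piv s, v, hv, t => by
    induction t using Fin.lastCases with
    | last => exact ⟨Fin.last _, by simp [rows]⟩
    | cast t =>
      obtain ⟨i, hi⟩ := exists_row_ne_zero s v hv t
      exact ⟨i.castSucc, by simp [rows, hi]⟩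
  | _, _, .col s j, v, hv, t => by
    induction t using Fin.lastCases with
    | last =>
      refine ⟨j, ?_⟩
      simp only [rows, Fin.snoc_last, le_refl, dite_true]
      exact hv _ (Finset.inr_mem_disjSum.2 (Finset.mem_singleton_self _))
    | cast t =>
      obtain ⟨i, hi⟩ := exists_row_ne_zero s (fun x => v (Sum.inl x)) (fun x hx => hv _ (Finset.inl_mem_disjSum.2 hx)) t
      exact ⟨i, by simp [rows, hi]⟩

/-- The span of the rows. -/
abbrev space {N r : ℕ} (s : Sh N r) (v : Var.{u} s → A) : Submodule A (Fin N → A) :=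
  Submodule.span A (Set.range (rows s v))

/-- Membership in the span of the rows is decided by the pivot entries. -/
theorem mem_space_iff {N r : ℕ} {s : Sh N r} {v : Var.{u} s → A} {z : Fin N → A} :
    z ∈ space s v ↔ z = ∑ i, z (pivot s i) • rows s v i := by
  refine ⟨fun hz => ?_, fun h => h ▸ sum_mem fun i _ => Submodule.smul_mem _ _ (Submodule.subset_span ⟨i, rfl⟩)⟩
  obtain ⟨w, rfl⟩ := Submodule.mem_span_range_iff_exists_fun A |>.1 hz
  refine Finset.sum_congr rfl fun i _ => ?_
  congr 1
  simp only [Finset.sum_apply, Pi.smul_apply, smul_eq_mul, rows_pivot]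
  simp

/-- The quotient by a cell is free on the columns without pivot. -/
theorem exists_equiv [Nontrivial A] {N r : ℕ} (s : Sh N r) (v : Var.{u} s → A) :
    Nonempty (((Fin N → A) ⧸ space s v) ≃ₗ[A] (Fin (N - r) → A)) := by
  classical
  let C := {t : Fin N // t ∉ Set.range (pivot s)}
  let E : (Fin N → A) →ₗ[A] (C → A) :=
    LinearMap.pi fun t => LinearMap.proj t.1 - ∑ i, rows s v i t.1 • LinearMap.proj (pivot s i)
  have hE : ∀ z t, E z t = z t.1 - ∑ i, rows s v i t.1 * z (pivot s i) := fun z t => by simp [E]
  have hker : LinearMap.ker E = space s v := by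
    ext z
    rw [LinearMap.mem_ker, mem_space_iff]
    constructor
    · intro h
      funext t
      simp only [Finset.sum_apply, Pi.smul_apply, smul_eq_mul]
      by_cases ht : t ∈ Set.range (pivot s)
      · obtain ⟨i', rfl⟩ := ht
        simp [rows_pivot]
      · have := congrFun h ⟨t, ht⟩
        rw [hE, Pi.zero_apply, sub_eq_zero] at this
        exact this.trans (Finset.sum_congr rfl fun i _ => mul_comm _ _)
    · intro h
      funext t
      rw [hE, Pi.zero_apply, sub_eq_zero]
      have := congrFun h t.1
      simp only [Finset.sum_apply, Pi.smul_apply, smul_eq_mul] at this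
      exact this.trans (Finset.sum_congr rfl fun i _ => mul_comm _ _)
  have hsurj : Function.Surjective E := fun c => by
    refine ⟨fun t => if h : t ∈ Set.range (pivot s) then 0 else c ⟨t, h⟩, funext fun t => ?_⟩
    rw [hE, dif_neg t.2, Finset.sum_eq_zero fun i _ => by rw [dif_pos ⟨i, rfl⟩, mul_zero], sub_zero]
  have hcard : Fintype.card C = N - r := by
    rw [Fintype.card_subtype_compl, Fintype.card_fin]
    congr 1
    exact (Set.card_range_of_injective (pivot_injective s)).trans (Fintype.card_fin r)
  exact ⟨(Submodule.quotEquivOfEq _ _ hker.symm) ≪≫ₗ E.quotKerEquivOfSurjective hsurj ≪≫ₗ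
    LinearEquiv.funCongrLeft A A (Fintype.equivFinOfCardEq hcard).symm⟩

section field

variable {K : Type v} [Field K]

/-- Forget the last coordinate. -/
abbrev front (N : ℕ) : (Fin (N + 1) → K) →ₗ[K] (Fin N → K) := LinearMap.funLeft K K Fin.castSucc

/-- Every subspace meeting all coordinates is a cell. -/
theorem exists_cell : ∀ (N : ℕ) (V : Submodule K (Fin N → K)), (∀ t, ∃ z ∈ V, z t ≠ 0) →
    ∃ (r : ℕ) (s : Sh N r) (v : Var.{u} s → K), (∀ x ∈ units s, v x ≠ 0) ∧ space s v = V
  | 0, V, _ => ⟨0, .nil, PEmpty.elim, fun x => x.elim, Subsingleton.elim _ _⟩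
  | N + 1, V, hV => by
    classical
    obtain ⟨r, s, v, hv, hsp⟩ := exists_cell N (V.map (front N)) fun t => by
      obtain ⟨z, hz, hzt⟩ := hV t.castSucc
      exact ⟨front N z, Submodule.mem_map_of_mem hz, hzt⟩
    have hlift : ∀ i, ∃ z ∈ V, front N z = rows s v i := fun i =>
      Submodule.mem_map.1 (hsp ▸ Submodule.subset_span ⟨i, rfl⟩)
    choose z hz hzf using hlift
    have hsnoc : ∀ y : Fin (N + 1) → K, y = Fin.snoc (front N y) (y (Fin.last N)) := fun y => (Fin.snoc_init_self y).symm
    have key : ∀ y ∈ V, ∃ e, e ∈ V ∧ front N e = 0 ∧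
        y = (∑ i, front N y (pivot s i) • z i) + e := fun y hy => by
      refine ⟨y - ∑ i, front N y (pivot s i) • z i, sub_mem hy (sum_mem fun i _ => V.smul_mem _ (hz i)), ?_, by abel⟩
      rw [map_sub, map_sum, sub_eq_zero]
      simp only [map_smul, hzf]
      exact mem_space_iff.1 (hsp ▸ Submodule.mem_map_of_mem hy)
    have hzero : ∀ e : Fin (N + 1) → K, front N e = 0 → e = e (Fin.last N) • Fin.snoc 0 1 := fun e he => by
      funext t
      induction t using Fin.lastCases with
      | last => simp
      | cast t => simpa using congrFun he t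
    have hsl : ∀ e ∈ V, front N e = 0 → e (Fin.last N) ≠ 0 → (Fin.snoc 0 1 : Fin (N + 1) → K) ∈ V :=
      fun e he he0 hel => by
        have h1 : (e (Fin.last N))⁻¹ • e = Fin.snoc 0 1 := by
          conv_lhs => arg 2; rw [hzero e he0]
          rw [smul_smul, inv_mul_cancel₀ hel, one_smul]
        exact h1 ▸ V.smul_mem _ he
    by_cases hlast : (Fin.snoc 0 1 : Fin (N + 1) → K) ∈ V
    · refine ⟨r + 1, .piv s, v, hv, le_antisymm (Submodule.span_le.2 ?_) fun y hy => ?_⟩
      · rintro _ ⟨i, rfl⟩
        induction i using Fin.lastCases with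
        | last => simpa [rows] using hlast
        | cast i =>
          have e : rows (.piv s) v i.castSucc = z i - z i (Fin.last N) • Fin.snoc 0 1 := by
            funext t
            induction t using Fin.lastCases with
            | last => simp [rows]
            | cast t => simp [rows, ← hzf i, front, LinearMap.funLeft]
          rw [e]
          exact sub_mem (hz i) (V.smul_mem _ hlast)
      · rw [hsnoc y]
        have : (Fin.snoc (front N y) (y (Fin.last N)) : Fin (N + 1) → K) =
            (∑ i, front N y (pivot s i) • rows (.piv s) v i.castSucc) + y (Fin.last N) • rows (.piv s) v (Fin.last r) := by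
          funext t
          induction t using Fin.lastCases with
          | last => simp [rows]
          | cast t =>
            have := congrFun (mem_space_iff.1 (hsp ▸ Submodule.mem_map_of_mem hy)) t
            simpa [rows] using this
        rw [this]
        exact add_mem (sum_mem fun i _ => Submodule.smul_mem _ _ (Submodule.subset_span ⟨_, rfl⟩))
          (Submodule.smul_mem _ _ (Submodule.subset_span ⟨_, rfl⟩))
    · have hne : ∃ i, z i (Fin.last N) ≠ 0 := by
        by_contra h
        push Not at h
        obtain ⟨y, hy, hyl⟩ := hV (Fin.last N)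
        obtain ⟨e, he, he0, hye⟩ := key y hy
        refine hlast ?_
        have hel : e (Fin.last N) = y (Fin.last N) := by
          conv_rhs => rw [hye]
          simp [h]
        exact hsl e he he0 (hel ▸ hyl)
      obtain ⟨j, hj, hjmin⟩ : ∃ j, z j (Fin.last N) ≠ 0 ∧ ∀ i, ¬ j ≤ i → z i (Fin.last N) = 0 := by
        have hS : (Finset.univ.filter fun i => z i (Fin.last N) ≠ 0).Nonempty := by
          obtain ⟨i, hi⟩ := hne; exact ⟨i, by simp [hi]⟩
        refine ⟨_, (Finset.mem_filter.1 (Finset.min'_mem _ hS)).2, fun i hi => ?_⟩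
        by_contra h
        exact hi (Finset.min'_le _ i (by simp [h]))
      let v' : Var.{u} (Sh.col s j) → K := Sum.elim v fun x => z x.down.1 (Fin.last N)
      have hrow : ∀ i, rows (.col s j) v' i = z i := fun i => by
        funext t
        induction t using Fin.lastCases with
        | last =>
          by_cases h : j ≤ i
          · simp [rows, v', h]
          · simp [rows, h, hjmin i h]
        | cast t =>
          simp only [rows, Fin.snoc_castSucc]
          exact (congrFun (hzf i) t).symm
      refine ⟨r, .col s j, v', fun x hx => ?_, le_antisymm (Submodule.span_le.2 ?_) fun y hy => ?_⟩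
      · rcases Finset.mem_disjSum.1 hx with ⟨x', hx', rfl⟩ | ⟨x', hx', rfl⟩
        · exact hv x' hx'
        · rw [Finset.mem_singleton.1 hx']; exact hj
      · rintro _ ⟨i, rfl⟩
        rw [hrow]; exact hz i
      · obtain ⟨e, he, he0, hye⟩ := key y hy
        have he' : e = 0 := by
          by_contra hne'
          refine hlast ?_
          exact hsl e he he0 fun h => hne' (by rw [hzero e he0, h, zero_smul])
        rw [hye, he', add_zero]
        exact sum_mem fun i _ => Submodule.smul_mem _ _ (Submodule.subset_span ⟨i, hrow i⟩)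

lemma snoc_zero_mem_piv {N r : ℕ} (s : Sh N r) (v : Var.{u} s → K) :
    (Fin.snoc 0 1 : Fin (N + 1) → K) ∈ space (Sh.piv s) v :=
  Submodule.subset_span ⟨Fin.last r, by simp [rows]⟩

lemma snoc_zero_notMem_col {N r : ℕ} (s : Sh N r) (j : Fin r) (v : Var.{u} (Sh.col s j) → K) :
    (Fin.snoc 0 1 : Fin (N + 1) → K) ∉ space (Sh.col s j) v := fun h => by
  have h' := congrFun (mem_space_iff.1 h) (Fin.last N)
  simp [pivot] at h'

lemma map_front_piv {N r : ℕ} (s : Sh N r) (v : Var.{u} s → K) :
    (space (Sh.piv s) v).map (front N) = space s v := by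
  rw [Submodule.map_span, ← Set.range_comp]
  refine le_antisymm (Submodule.span_le.2 ?_) (Submodule.span_le.2 ?_)
  · rintro _ ⟨i, rfl⟩
    induction i using Fin.lastCases with
    | last =>
      have : front N (rows (Sh.piv s) v (Fin.last r)) = (0 : Fin N → K) := funext fun t => by
        simp [rows, front, LinearMap.funLeft]
      simp only [Function.comp_apply, this]
      exact zero_mem _
    | cast i => exact Submodule.subset_span ⟨i, funext fun t => by simp [rows, front, LinearMap.funLeft]⟩
  · rintro _ ⟨i, rfl⟩
    exact Submodule.subset_span ⟨i.castSucc, funext fun t => by simp [rows, front, LinearMap.funLeft]⟩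

lemma map_front_col {N r : ℕ} (s : Sh N r) (j : Fin r) (v : Var.{u} (Sh.col s j) → K) :
    (space (Sh.col s j) v).map (front N) = space s fun x => v (Sum.inl x) := by
  rw [Submodule.map_span, ← Set.range_comp]
  congr 1
  refine congrArg Set.range (funext fun i => funext fun t => by simp [rows, front, LinearMap.funLeft])

/-- Cells do not overlap. -/
theorem cell_unique : ∀ {N r r' : ℕ} (s : Sh N r) (s' : Sh N r') (v : Var.{u} s → K) (v' : Var.{u} s' → K),
    (∀ x ∈ units s, v x ≠ 0) → (∀ x ∈ units s', v' x ≠ 0) → space s v = space s' v' →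
      (⟨r, s, v⟩ : Σ r, Σ s : Sh N r, Var.{u} s → K) = ⟨r', s', v'⟩
  | _, _, _, .nil, .nil, v, v', _, _, _ => by rw [show v = v' from funext fun x => x.elim]
  | _, _, _, .piv s, .piv s', v, v', hv, hv', h => by
    cases cell_unique s s' v v' hv hv' (by rw [← map_front_piv, h, map_front_piv])
    rfl
  | _, _, _, .piv s, .col s' j', v, v', _, _, h =>
    absurd (h ▸ snoc_zero_mem_piv s v) (snoc_zero_notMem_col s' j' v')
  | _, _, _, .col s j, .piv s', v, v', _, _, h =>
    absurd (h.symm ▸ snoc_zero_mem_piv s' v') (snoc_zero_notMem_col s j v)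
  | _, _, _, .col s j, .col s' j', v, v', hv, hv', h => by
    have hmap : space s (fun x => v (Sum.inl x)) = space s' fun x => v' (Sum.inl x) := by
      rw [← map_front_col s j v, h, map_front_col]
    obtain ⟨rfl, h2⟩ := Sigma.mk.inj_iff.1 (cell_unique s s' _ _ (fun x hx => hv _ (Finset.inl_mem_disjSum.2 hx))
      (fun x hx => hv' _ (Finset.inl_mem_disjSum.2 hx)) hmap)
    obtain ⟨rfl, h3⟩ := Sigma.mk.inj_iff.1 (eq_of_heq h2)
    have hl : ∀ x, v (Sum.inl x) = v' (Sum.inl x) := congrFun (eq_of_heq h3)
    have hrow : ∀ i, rows (.col s j) v i = rows (.col s j') v' i := fun i => by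
      have hmem : rows (.col s j) v i ∈ space (.col s j') v' := h ▸ Submodule.subset_span ⟨i, rfl⟩
      rw [mem_space_iff] at hmem
      rw [hmem, Finset.sum_eq_single i]
      · rw [show pivot (Sh.col s j') i = pivot (Sh.col s j) i from rfl, rows_pivot, if_pos rfl, one_smul]
      · intro i' _ hne
        rw [show pivot (Sh.col s j') i' = pivot (Sh.col s j) i' from rfl, rows_pivot, if_neg (Ne.symm hne), zero_smul]
      · simp
    have hj : j = j' := by
      have u1 := hv _ (Finset.inr_mem_disjSum.2 (Finset.mem_singleton_self (ULift.up (⟨j, le_rfl⟩ : {i // j ≤ i}))))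
      have u2 := hv' _ (Finset.inr_mem_disjSum.2 (Finset.mem_singleton_self (ULift.up (⟨j', le_rfl⟩ : {i // j' ≤ i}))))
      have e1 := congrFun (hrow j) (Fin.last _)
      have e2 := congrFun (hrow j') (Fin.last _)
      simp only [rows, Fin.snoc_last, le_refl, dite_true] at e1 e2
      refine le_antisymm ?_ ?_ <;> by_contra hlt
      · rw [dif_neg hlt] at e2; exact u2 e2.symm
      · rw [dif_neg hlt] at e1; exact u1 e1
    subst hj
    suffices hvv : v = v' by rw [hvv]
    funext x
    rcases x with x | ⟨⟨i, hi⟩⟩
    · exact hl x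
    · have := congrFun (hrow i) (Fin.last _)
      simpa [rows, hi] using this

end field

end Groth.Agent.H27Axes
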