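import Groth.Agent.H27Axes.Linear
import Groth.Agent.H27Axes.Algebra
import Groth.Agent.H27Axes.Classes
import Groth.Agent.H27PunctStrat.Basic
import Mathlib

/-! # Punctual Hilbert schemes of the coordinate axes -/

set_option autoImplicit false
set_option linter.style.haveILetI false
set_option backward.isDefEq.respectTransparency false
set_option backward.isDefEq.respectTransparency.types false
set_option synthInstance.maxHeartbeats 400000

universe u

open CategoryTheory CategoryTheory.Limits AlgebraicGeometry TensorProduct CommRingCat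

namespace Groth.Agent.H27Axes

open H27HilbAff H27PunctStrat

variable {k : Type u} [Field k] {N d : ℕ}

instance finiteType_bax : Algebra.FiniteType k (Bax k N) :=
  Algebra.FiniteType.of_surjective (mkB k N) (Ideal.Quotient.mkₐ_surjective k (axes k N))

variable (k N d) in
/-- The labels of the pieces. -/
def Idx := {p : Σ r : Fin (N + 1), (Fin N → Fin d) × Sh N r.1 //
  1 + (∑ t, (p.2.1 t).1) + (N - p.1.1) = d}

instance : Finite (Idx N d) := by
  haveI : ∀ r : Fin (N + 1), Finite ((Fin N → Fin d) × Sh N r.1) := fun r => inferInstance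
  exact inferInstanceAs (Finite {p : Σ r : Fin (N + 1), (Fin N → Fin d) × Sh N r.1 //
    1 + (∑ t, (p.2.1 t).1) + (N - p.1.1) = d})

/-- The exponents of a label. -/
def expo (i : Idx N d) (t : Fin N) : ℕ := (i.1.2.1 t).1 + 1

/-- The ring of a piece. -/
abbrev Ring (k : Type u) [Field k] (i : Idx N d) : Type u := Torus k (units.{u} i.1.2.2)

/-- The family of a piece. -/
noncomputable abbrev fam (k : Type u) [Field k] (i : Idx N d) : Ideal (Ring k i ⊗[k] Bax k N) :=
  ideal (k := k) (expo i) (space i.1.2.2 fun x => coord k (units.{u} i.1.2.2) x)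

lemma map_fam (i : Idx N d) {K : Type u} [CommRing K] [Algebra k K] (χ : Ring k i →ₐ[k] K) :
    (fam k i).map (bc χ) = ideal (k := k) (expo i) (space i.1.2.2 fun x => χ (coord k (units.{u} i.1.2.2) x)) := by
  rw [fam, space, map_ideal χ (a := expo i) (fun t => Nat.succ_ne_zero _)]
  congr 2
  refine congrArg Set.range (funext fun j => funext fun t => ?_)
  exact rows_map χ.toRingHom i.1.2.2 _ j t

theorem fam_rank (i : Idx N d) :
    Module.Finite (Ring k i) ((Ring k i ⊗[k] Bax k N) ⧸ fam k i) ∧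
      Module.Free (Ring k i) ((Ring k i ⊗[k] Bax k N) ⧸ fam k i) ∧
      Module.finrank (Ring k i) ((Ring k i ⊗[k] Bax k N) ⧸ fam k i) = d := by
  obtain ⟨e⟩ := exists_equiv i.1.2.2 fun x => coord k (units.{u} i.1.2.2) x
  obtain ⟨h1, h2, h3⟩ := quotient_free (k := k) (a := expo i) (fun t => Nat.succ_ne_zero _) _ e
  refine ⟨h1, h2, h3.trans ?_⟩
  have hi := i.2
  simp only [expo, Nat.add_sub_cancel]
  exact hi

lemma top_le_map {K : Type u} [CommRing K] [Algebra k K] (t : Fin N) {m : Ideal (Bax k N)}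
    (hm : m = Ideal.map (mkB k N) (Ideal.span (Set.range MvPolynomial.X))) :
    x (k := k) K t ∈ m.map (Algebra.TensorProduct.includeRight : Bax k N →ₐ[k] K ⊗[k] Bax k N) := by
  rw [hm]
  exact Ideal.mem_map_of_mem _ (Ideal.mem_map_of_mem _ (Ideal.subset_span ⟨t, rfl⟩))

/-- Classes of punctual Hilbert schemes of the axes. -/
theorem cl_punctual (hd : d ≠ 0) {f : Spec (CommRingCat.of (Bax k N)) ⟶ Spec (CommRingCat.of k)}
    (hf : f = fB (R := k) (B := Bax k N) (𝟙 (Spec (CommRingCat.of k))))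
    {H : Over (Spec (CommRingCat.of k))} [LocallyOfFiniteType H.hom] [QuasiCompact H.hom]
    (Z : HilbD.Obj f d H) (hZ : HilbD.IsUniversal f d H Z) {x₀ : PrimeSpectrum (Bax k N)}
    (hmax : x₀.asIdeal.IsMaximal)
    (hx₀ : x₀.asIdeal = Ideal.map (mkB k N) (Ideal.span (Set.range MvPolynomial.X)))
    {HP : Scheme.{u}} (ι : HP ⟶ H.left) [IsClosedImmersion ι]
    (hι : Set.range ι = {h | ∀ z : Z.1.subscheme, (Z.1.subschemeι ≫ pullback.snd f H.hom) z = h →
      (Z.1.subschemeι ≫ pullback.fst f H.hom) z = x₀}) :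
    ∃ p : Polynomial ℤ, K0Var.cl (ι ≫ H.hom) =
      Polynomial.eval₂ (Int.castRingHom (K0Var.K (Spec (CommRingCat.of k)))) (K0Var.L (Spec (CommRingCat.of k))) p := by
  classical
  haveI : Fintype (Idx N d) := Fintype.ofFinite _
  have hcl := H27PunctStrat.cl_eq_sum hf Z hZ hmax ι hι (α := Idx N d) (fun i => Ring k i) (fun i => fam k i)
    fam_rank
    (fun i K _ _ χ => by
      rw [IsPunct, map_fam, hx₀, Ideal.map_le_iff_le_comap, Ideal.map_le_iff_le_comap, Ideal.span_le]
      rintro _ ⟨t, rfl⟩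
      exact ⟨expo i t + 1, x_pow_mem (fun t => Nat.succ_ne_zero _) _ t⟩)
    (fun K _ _ I hfin hrank hpun => by
      have hI : I ≠ ⊤ := by
        rintro rfl
        haveI : Subsingleton ((K ⊗[k] Bax k N) ⧸ (⊤ : Ideal (K ⊗[k] Bax k N))) :=
          Submodule.Quotient.subsingleton_iff.2 rfl
        rw [Module.finrank_zero_of_subsingleton] at hrank
        exact hd hrank.symm
      obtain ⟨a, V, ha, hV, rfl⟩ := exists_eq_ideal I hI fun t => hpun (top_le_map t hx₀)
      obtain ⟨r, s, v, hv, hsp⟩ := exists_cell.{u} N V hV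
      obtain ⟨e⟩ := exists_equiv s v
      have hr := (quotient_free (k := k) ha _ e).2.2
      rw [hsp, hrank] at hr
      have hb : ∀ t, a t - 1 < d := fun t => by
        have := Finset.single_le_sum (f := fun t => a t - 1) (fun _ _ => Nat.zero_le _) (Finset.mem_univ t)
        omega
      let i : Idx N d := ⟨⟨⟨r, Nat.lt_succ_of_le s.le⟩, (fun t => ⟨a t - 1, hb t⟩), s⟩, hr.symm⟩
      have hai : expo i = a := funext fun t => Nat.sub_add_cancel (Nat.pos_of_ne_zero (ha t))
      let χ : Ring k i →ₐ[k] K := point (U := units.{u} s) v fun x hx => (hv x hx).isUnit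
      have hχ₀ : ∀ x, χ (coord k (units.{u} i.1.2.2) x) = v x := point_coord _ _
      refine ⟨⟨i, χ⟩, ?_, ?_⟩
      · show (fam k i).map (bc χ) = _
        rw [map_fam, hai, show (fun x => χ (coord k (units.{u} i.1.2.2) x)) = v from funext hχ₀, hsp]
      · rintro ⟨j, χ'⟩ hj
        have hj' : ideal (k := k) (expo j) (space j.1.2.2 fun x => χ' (coord k (units.{u} j.1.2.2) x)) =
            ideal (k := k) a V := (map_fam j χ').symm.trans hj
        have hv' : ∀ x ∈ units.{u} j.1.2.2, χ' (coord k (units.{u} j.1.2.2) x) ≠ 0 := fun x hx =>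
          ((isUnit_coord hx).map χ').ne_zero
        have hfull : ∀ t, ∃ z ∈ space j.1.2.2 (fun x => χ' (coord k (units.{u} j.1.2.2) x)), z t ≠ 0 := fun t => by
          obtain ⟨l, hl⟩ := exists_row_ne_zero _ _ hv' t
          exact ⟨_, Submodule.subset_span ⟨l, rfl⟩, hl⟩
        obtain ⟨h1, h2⟩ := ideal_injective (fun t => Nat.succ_ne_zero _) ha hfull hV hj'
        obtain ⟨⟨⟨r', hr'⟩, b', s'⟩, hj₂⟩ := j
        have hu := cell_unique s' s _ v hv' hv (h2.trans hsp.symm)
        obtain ⟨rfl, h3⟩ := Sigma.mk.inj_iff.1 hu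
        obtain ⟨rfl, h4⟩ := Sigma.mk.inj_iff.1 (eq_of_heq h3)
        obtain rfl : b' = fun t => ⟨a t - 1, hb t⟩ := funext fun t => Fin.ext (by
          have := congrFun h1 t
          simp only [expo] at this ⊢
          omega)
        have : χ' = χ := point_ext (U := units.{u} s') fun x =>
          (congrFun (eq_of_heq h4) x).trans (hχ₀ x).symm
        rw [this])
  choose p hp using fun i : Idx N d => exists_cl_torus (k := k) (units.{u} i.1.2.2)
  refine ⟨∑ i, p i, hcl.trans ?_⟩
  rw [Polynomial.eval₂_finsetSum]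
  exact Finset.sum_congr rfl fun i _ => hp i

/-- The punctual Hilbert scheme of no points. -/
theorem cl_punctual_zero {f : Spec (CommRingCat.of (Bax k N)) ⟶ Spec (CommRingCat.of k)}
    (hf : f = fB (R := k) (B := Bax k N) (𝟙 (Spec (CommRingCat.of k))))
    {H : Over (Spec (CommRingCat.of k))} [LocallyOfFiniteType H.hom] [QuasiCompact H.hom]
    (Z : HilbD.Obj f 0 H) (hZ : HilbD.IsUniversal f 0 H Z) {x₀ : PrimeSpectrum (Bax k N)}
    (hmax : x₀.asIdeal.IsMaximal) {HP : Scheme.{u}} (ι : HP ⟶ H.left) [IsClosedImmersion ι]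
    (hι : Set.range ι = {h | ∀ z : Z.1.subscheme, (Z.1.subschemeι ≫ pullback.snd f H.hom) z = h →
      (Z.1.subschemeι ≫ pullback.fst f H.hom) z = x₀}) :
    K0Var.cl (ι ≫ H.hom) = 1 := by
  haveI : Subsingleton ((k ⊗[k] Bax k N) ⧸ (⊤ : Ideal (k ⊗[k] Bax k N))) :=
    Submodule.Quotient.subsingleton_iff.2 rfl
  have hcl := H27PunctStrat.cl_eq_sum hf Z hZ hmax ι hι (α := PUnit.{u + 1}) (fun _ => k) (fun _ => ⊤)
    (fun _ => ⟨inferInstance, inferInstance, Module.finrank_zero_of_subsingleton⟩)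
    (fun _ K _ _ χ => by rw [IsPunct, Ideal.map_top, Ideal.radical_top]; exact le_top)
    (fun K _ _ I hfin hrank _ => by
      haveI hsub : Subsingleton ((K ⊗[k] Bax k N) ⧸ I) := Module.finrank_zero_iff.1 hrank
      refine ⟨⟨PUnit.unit, Algebra.ofId k K⟩, ?_, ?_⟩
      · show (⊤ : Ideal (k ⊗[k] Bax k N)).map _ = I
        rw [Ideal.map_top]
        exact ((Submodule.Quotient.subsingleton_iff (p := I)).1 hsub).symm
      · rintro ⟨⟨⟩, χ⟩ -
        rw [Subsingleton.elim χ (Algebra.ofId k K)])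
  rw [hcl, Fintype.sum_unique, ← K0Var.cl_one]
  refine K0Var.cl_congr _ _ (Iso.refl _) ?_
  show 𝟙 _ ≫ 𝟙 _ = Spec.map (ofHom (algebraMap k k))
  rw [Category.comp_id]
  exact (Spec.map_id _).symm

end Groth.Agent.H27Axes
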